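import Groth.Agent.H7Weight.Chart
import Mathlib.AlgebraicGeometry.ZariskisMainTheorem

/-!
# Étale neighbourhoods splitting off quasi-finite points
-/

set_option autoImplicit false
set_option backward.isDefEq.respectTransparency false
set_option linter.style.haveILetI false

universe u

open AlgebraicGeometry CategoryTheory Limits

namespace Groth.Agent.H8Props.EtaleSplit

open H7Weight

variable {X S : Scheme.{u}} (f : X ⟶ S) [LocallyOfFiniteType f]

/-- The open immersion of the base change of the quasi-finite locus. -/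
noncomputable def incl {U : Scheme.{u}} (g : U ⟶ S) :
    pullback (f.quasiFiniteLocus.ι ≫ f) g ⟶ pullback f g :=
  pullback.map _ _ _ _ f.quasiFiniteLocus.ι (𝟙 U) (𝟙 S) (Category.comp_id _) (by simp)

instance {U : Scheme.{u}} (g : U ⟶ S) : IsOpenImmersion (incl f g) := by
  unfold incl; infer_instance

theorem incl_fst {U : Scheme.{u}} (g : U ⟶ S) :
    incl f g ≫ pullback.fst f g = pullback.fst _ g ≫ f.quasiFiniteLocus.ι :=
  pullback.lift_fst _ _ _

theorem incl_snd {U : Scheme.{u}} (g : U ⟶ S) :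
    incl f g ≫ pullback.snd f g = pullback.snd _ g :=
  (pullback.lift_snd _ _ _).trans (Category.comp_id _)

variable {Ω : Type u} [Field Ω] [IsAlgClosed Ω]

/-- Lifts of a geometric point at given quasi-finite points. -/
abbrev PtsAt (η : Spec (CommRingCat.of Ω) ⟶ S) {ι : Type} (x : ι → f.quasiFiniteLocus.toScheme) : Type u :=
  Σ i, {s : Pts (f.quasiFiniteLocus.ι ≫ f) η // pt s.1 = x i}

theorem finite_ptsAt (η : Spec (CommRingCat.of Ω) ⟶ S) {ι : Type} [Finite ι]
    (x : ι → f.quasiFiniteLocus.toScheme) (hx : ∀ i, (f.quasiFiniteLocus.ι ≫ f) (x i) = pt η) :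
    Finite (PtsAt f η x) := by
  haveI : ∀ i, Finite {s : Pts (f.quasiFiniteLocus.ι ≫ f) η // pt s.1 = x i} := fun i =>
    (card_pts_at _ η (x i) (hx i)).1
  infer_instance

/-- The data of the splitting: an étale neighbourhood and a single-point chart at every lift. -/
structure Splitting (η : Spec (CommRingCat.of Ω) ⟶ S) {ι : Type} (x : ι → f.quasiFiniteLocus.toScheme) where
  U : Scheme.{u}
  g : U ⟶ S
  etale : Etale g
  η' : Spec (CommRingCat.of Ω) ⟶ U
  η'_g : η' ≫ g = η
  D : ∀ p : PtsAt f η x, Single g η' p.2.1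

namespace Splitting

attribute [instance] Splitting.etale

variable {f} {η : Spec (CommRingCat.of Ω) ⟶ S} {ι : Type} {x : ι → f.quasiFiniteLocus.toScheme}
  (T : Splitting f η x)

/-- A piece, as an open immersion into the base change. -/
noncomputable def j (p : PtsAt f η x) : (T.D p).C.U ⟶ pullback f T.g := (T.D p).C.lift ≫ incl f T.g

instance (p : PtsAt f η x) : IsOpenImmersion (T.j p) := by
  unfold j; infer_instance

theorem j_snd (p : PtsAt f η x) : T.j p ≫ pullback.snd f T.g = (T.D p).C.π := by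
  rw [j, Category.assoc, incl_snd, Chart.lift_snd]

theorem j_fst (p : PtsAt f η x) :
    T.j p ≫ pullback.fst f T.g = (T.D p).C.a ≫ f.quasiFiniteLocus.ι := by
  rw [j, Category.assoc, incl_fst, Chart.lift_fst_assoc]

/-- The point of a piece over the chosen point. -/
noncomputable def v (p : PtsAt f η x) : ↑(pullback f T.g) := T.j p (pt (T.D p).p.1)

theorem snd_v (p : PtsAt f η x) : pullback.snd f T.g (T.v p) = pt T.η' :=
  (congrArg (fun m => m (pt (T.D p).p.1)) (T.j_snd p)).trans (T.D p).p.map_pt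

theorem fst_v (p : PtsAt f η x) : pullback.fst f T.g (T.v p) = f.quasiFiniteLocus.ι (x p.1) :=
  (congrArg (fun m => m (pt (T.D p).p.1)) (T.j_fst p)).trans
    (congrArg f.quasiFiniteLocus.ι ((congr(pt $((T.D p).p_a))).trans p.2.2))

theorem eq_v_of_mem_range (p : PtsAt f η x) (w : ↑(pullback f T.g)) (hw : w ∈ Set.range (T.j p))
    (hu : pullback.snd f T.g w = pt T.η') : w = T.v p := by
  obtain ⟨z, rfl⟩ := hw
  have hz : (T.D p).C.π z = pt T.η' := (congrArg (fun m => m z) (T.j_snd p)).symm.trans hu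
  obtain ⟨r, rfl⟩ := exists_pts (T.D p).C.π T.η' z hz
  rw [(T.D p).unique r]
  rfl

theorem v_injective (hinj : Function.Injective x) : Function.Injective T.v := by
  intro p q h
  have hsub : Set.range ((T.D q).p.1 ≫ T.j q) ⊆ Set.range (T.j p) := by
    rintro _ ⟨z, rfl⟩
    rw [Subsingleton.elim z (IsLocalRing.closedPoint Ω)]
    exact ⟨pt (T.D p).p.1, h⟩
  let r : Pts (T.D p).C.π T.η' := ⟨IsOpenImmersion.lift (T.j p) _ hsub, by
    rw [← T.j_snd p, IsOpenImmersion.lift_fac_assoc, Category.assoc, T.j_snd, (T.D q).p.2]⟩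
  have h1 : (T.D p).p.1 ≫ T.j p = (T.D q).p.1 ≫ T.j q := by
    rw [← (T.D p).unique r]
    exact IsOpenImmersion.lift_fac _ _ _
  have h2 := congrArg (fun m => m ≫ pullback.fst f T.g) h1
  simp only [Category.assoc, j_fst] at h2
  rw [← Category.assoc, ← Category.assoc, (T.D p).p_a, (T.D q).p_a, cancel_mono] at h2
  obtain ⟨i, s, hs⟩ := p
  obtain ⟨i', s', hs'⟩ := q
  obtain rfl : s = s' := Subtype.ext h2
  have hi : x i = x i' := hs.symm.trans hs'
  obtain rfl := hinj hi
  rfl

theorem exists_eq_v (w : ↑(pullback f T.g)) (i : ι) (hu : pullback.snd f T.g w = pt T.η')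
    (hi : pullback.fst f T.g w = f.quasiFiniteLocus.ι (x i)) : ∃ p, p.1 = i ∧ T.v p = w := by
  obtain ⟨w₀, rfl⟩ : w ∈ Set.range (incl f T.g) := by
    have : w ∈ pullback.fst f T.g ⁻¹' Set.range f.quasiFiniteLocus.ι := ⟨x i, hi.symm⟩
    rw [incl, Scheme.Pullback.range_map]
    exact ⟨this, ⟨_, rfl⟩⟩
  have hu' : pullback.snd (f.quasiFiniteLocus.ι ≫ f) T.g w₀ = pt T.η' :=
    (congrArg (fun m => m w₀) (incl_snd f T.g)).symm.trans hu
  obtain ⟨t, rfl⟩ := exists_pts (pullback.snd (f.quasiFiniteLocus.ι ≫ f) T.g) T.η' w₀ hu'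
  have hx : pt (t.1 ≫ pullback.fst _ T.g) = x i :=
    f.quasiFiniteLocus.ι.isOpenEmbedding.injective
      ((congrArg (fun m => m (pt t.1)) (incl_fst f T.g)).symm.trans hi)
  let p : PtsAt f η x := ⟨i, ⟨t.1 ≫ pullback.fst _ _, by
    rw [Category.assoc, pullback.condition, ← Category.assoc, t.2, T.η'_g]⟩, hx⟩
  refine ⟨p, rfl, ?_⟩
  have e : (T.D p).p.1 ≫ (T.D p).C.lift = t.1 := by
    apply pullback.hom_ext
    · rw [Category.assoc, Chart.lift_fst, (T.D p).p_a]
    · rw [Category.assoc, Chart.lift_snd, (T.D p).p.2, t.2]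
  show T.j p (pt (T.D p).p.1) = incl f T.g (pt t.1)
  rw [← e]
  rfl

theorem residue_props (p : PtsAt f η x) :
    letI := ((pullback.snd f T.g).residueFieldMap (T.v p)).hom.toAlgebra
    Module.Finite (T.U.residueField (pullback.snd f T.g (T.v p))) ((pullback f T.g).residueField (T.v p)) ∧
      IsPurelyInseparable (T.U.residueField (pullback.snd f T.g (T.v p)))
        ((pullback f T.g).residueField (T.v p)) := by
  letI := ((pullback.snd f T.g).residueFieldMap (T.v p)).hom.toAlgebra
  let z := pt (T.D p).p.1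
  letI : Algebra (T.U.residueField (pullback.snd f T.g (T.v p))) ((T.D p).C.U.residueField z) :=
    ((pullback.snd f T.g).residueFieldMap (T.v p) ≫ (T.j p).residueFieldMap z).hom.toAlgebra
  have key : ∀ (π : (T.D p).C.U ⟶ T.U) [IsFinite π], π z = pt T.η' →
      Subsingleton (Pts π T.η') → ((π.residueFieldMap z).hom.Finite ∧
        (letI := (π.residueFieldMap z).hom.toAlgebra
         IsPurelyInseparable (T.U.residueField (π z)) ((T.D p).C.U.residueField z))) := by
    intro π _ hπz hsub
    letI := (π.residueFieldMap z).hom.toAlgebra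
    obtain ⟨hfin, hne, hcard⟩ := card_pts_at π T.η' z hπz
    haveI : Module.Finite (T.U.residueField (π z)) ((T.D p).C.U.residueField z) := finite_residue π z
    refine ⟨finite_residue π z, (isPurelyInseparable_iff_finSepDegree_eq_one _ _).mpr ?_⟩
    rw [← hcard, Nat.card_eq_one_iff_unique]
    exact ⟨⟨fun a b => Subtype.ext (Subsingleton.elim _ _)⟩, hne⟩
  haveI : IsFinite (T.j p ≫ pullback.snd f T.g) := T.j_snd p ▸ (T.D p).C.finite
  obtain ⟨hfin, hpi⟩ := key (T.j p ≫ pullback.snd f T.g) (T.snd_v p)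
    (T.j_snd p ▸ ⟨fun a b => ((T.D p).unique a).trans ((T.D p).unique b).symm⟩)
  rw [Scheme.residueFieldMap_comp] at hfin hpi
  haveI : Module.Finite (T.U.residueField (pullback.snd f T.g (T.v p))) ((T.D p).C.U.residueField z) := hfin
  haveI : IsPurelyInseparable (T.U.residueField (pullback.snd f T.g (T.v p)))
      ((T.D p).C.U.residueField z) := hpi
  let e : (pullback f T.g).residueField (T.v p) ≃ₐ[T.U.residueField (pullback.snd f T.g (T.v p))]
      (T.D p).C.U.residueField z :=
    AlgEquiv.ofRingEquiv (f := (asIso ((T.j p).residueFieldMap z)).commRingCatIsoToRingEquiv) fun _ => rfl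
  exact ⟨Module.Finite.equiv e.symm.toLinearEquiv, e.symm.isPurelyInseparable⟩

end Splitting

end Groth.Agent.H8Props.EtaleSplit
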