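import Groth.Agent.H8Props.EtaleSplit.Core

/-!
# Existence of splittings, and disjointness in the separated case
-/

set_option autoImplicit false
set_option backward.isDefEq.respectTransparency false
set_option linter.style.haveILetI false
set_option linter.unusedSectionVars false

universe u

open AlgebraicGeometry CategoryTheory Limits

namespace Groth.Agent.H8Props.EtaleSplit

open H7Weight

variable {X S : Scheme.{u}} (f : X ⟶ S) [LocallyOfFiniteType f] {Ω : Type u} [Field Ω] [IsAlgClosed Ω]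

theorem exists_splitting (η : Spec (CommRingCat.of Ω) ⟶ S) {ι : Type} [Finite ι]
    (x : ι → f.quasiFiniteLocus.toScheme) (hx : ∀ i, (f.quasiFiniteLocus.ι ≫ f) (x i) = pt η) :
    Nonempty (Splitting f η x) := by
  classical
  haveI := finite_ptsAt f η x hx
  cases nonempty_fintype (PtsAt f η x)
  obtain ⟨U, g, _, η', hη', hD⟩ := exists_singles (f.quasiFiniteLocus.ι ≫ f) η
    (Finset.univ.image fun p : PtsAt f η x => p.2.1)
  exact ⟨⟨U, g, inferInstance, η', hη',
    fun p => (hD _ (Finset.mem_image_of_mem _ (Finset.mem_univ p))).some⟩⟩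

namespace Splitting

variable {f} {η : Spec (CommRingCat.of Ω) ⟶ S} {ι : Type} {x : ι → f.quasiFiniteLocus.toScheme}
  (T : Splitting f η x)

/-- Restriction to an open neighbourhood. -/
noncomputable def restrict (O : T.U.Opens) (hO : pt T.η' ∈ O) : Splitting f η x where
  U := O.toScheme
  g := O.ι ≫ T.g
  etale := inferInstance
  η' := IsOpenImmersion.lift O.ι T.η' (by
    rintro _ ⟨z, rfl⟩
    rw [Subsingleton.elim z (IsLocalRing.closedPoint Ω), Scheme.Opens.range_ι]
    exact hO)
  η'_g := by rw [IsOpenImmersion.lift_fac_assoc, T.η'_g]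
  D p := (T.D p).baseChange O.ι (IsOpenImmersion.lift_fac _ _ _)

theorem range_j_restrict (O : T.U.Opens) (hO : pt T.η' ∈ O) (p : PtsAt f η x) :
    ∀ w ∈ Set.range ((T.restrict O hO).j p),
      pullback.map f (O.ι ≫ T.g) f T.g (𝟙 X) O.ι (𝟙 S) (by simp) (by simp) w ∈ Set.range (T.j p) := by
  rintro _ ⟨z, rfl⟩
  refine ⟨pullback.fst (T.D p).C.π O.ι z, ?_⟩
  have e : (T.restrict O hO).j p ≫ pullback.map f (O.ι ≫ T.g) f T.g (𝟙 X) O.ι (𝟙 S) (by simp) (by simp) =
      pullback.fst (T.D p).C.π O.ι ≫ T.j p := by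
    apply pullback.hom_ext
    · rw [Category.assoc, pullback.lift_fst, Category.comp_id, Category.assoc, T.j_fst]
      exact ((T.restrict O hO).j_fst p).trans (Category.assoc _ _ _)
    · rw [Category.assoc, pullback.lift_snd, ← Category.assoc, Category.assoc _ (T.j p), T.j_snd]
      exact (congrArg (· ≫ O.ι) ((T.restrict O hO).j_snd p)).trans pullback.condition.symm
  exact (congrArg (fun m => m z) e).symm

variable [IsSeparated f]

theorem isFinite_j (p : PtsAt f η x) : IsFinite (T.j p) := by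
  haveI : IsFinite (T.j p ≫ pullback.snd f T.g) := T.j_snd p ▸ (T.D p).C.finite
  exact IsFinite.of_comp (T.j p) (pullback.snd f T.g)

theorem isClopen_range_j (p : PtsAt f η x) : IsClopen (Set.range (T.j p)) :=
  haveI := T.isFinite_j p
  ⟨(T.j p).isClosedMap.isClosed_range, (T.j p).isOpenEmbedding.isOpen_range⟩

include T in
theorem exists_restrict_disjoint [Finite ι] (hinj : Function.Injective x)
    (hx : ∀ i, (f.quasiFiniteLocus.ι ≫ f) (x i) = pt η) :
    ∃ T' : Splitting f η x, ∀ p q, (Set.range (T'.j p) ∩ Set.range (T'.j q)).Nonempty → p = q := by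
  classical
  haveI := finite_ptsAt f η x hx
  let B : Set T.U := ⋃ p, ⋃ q, ⋃ (_ : p ≠ q), (T.D p).C.π '' (T.j p ⁻¹' Set.range (T.j q))
  have hB : IsClosed B := isClosed_iUnion_of_finite fun p => isClosed_iUnion_of_finite fun q =>
    isClosed_iUnion_of_finite fun _ =>
      (T.D p).C.π.isClosedMap _ ((T.isClopen_range_j q).1.preimage (T.j p).continuous)
  have hu : pt T.η' ∉ B := by
    intro h
    simp only [B, Set.mem_iUnion] at h
    obtain ⟨p, q, hpq, z, hz, hzu⟩ := h
    have h1 : pullback.snd f T.g (T.j p z) = pt T.η' :=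
      (congrArg (fun m => m z) (T.j_snd p)).trans hzu
    exact hpq (T.v_injective hinj ((T.eq_v_of_mem_range p _ ⟨z, rfl⟩ h1).symm.trans
      (T.eq_v_of_mem_range q _ hz h1)))
  let O : T.U.Opens := ⟨Bᶜ, hB.isOpen_compl⟩
  refine ⟨T.restrict O hu, fun p q ⟨w, hwp, hwq⟩ => ?_⟩
  by_contra hpq
  let μ := pullback.map f (O.ι ≫ T.g) f T.g (𝟙 X) O.ι (𝟙 S) (by simp) (by simp)
  obtain ⟨z, hz⟩ := T.range_j_restrict O hu p w hwp
  have hin : pullback.snd f T.g (μ w) ∈ O := by
    have : μ ≫ pullback.snd f T.g = pullback.snd f (O.ι ≫ T.g) ≫ O.ι := pullback.lift_snd _ _ _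
    rw [← Scheme.Hom.comp_apply, this]
    exact (pullback.snd f (O.ι ≫ T.g) w).2
  refine hin (Set.mem_iUnion.2 ⟨p, Set.mem_iUnion.2 ⟨q, Set.mem_iUnion.2 ⟨hpq, z, ?_, ?_⟩⟩⟩)
  · show T.j p z ∈ Set.range (T.j q)
    rw [hz]
    exact T.range_j_restrict O hu q w hwq
  · rw [← hz]
    exact (congrArg (fun m => m z) (T.j_snd p)).symm

end Splitting

end Groth.Agent.H8Props.EtaleSplit
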